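import Mathlib
import Cfsg.Agent.BlockThms.OrderP.Main
import Cfsg.Agent.Char.DerivedPrime
import Cfsg.Agent.ProjExt.Det
import Cfsg.Agent.HSub.Basic

/-!
# A self-centralizing subgroup of prime order and a character of degree `p - 1`
-/

set_option autoImplicit false

namespace Cfsg.Agent.BlockThms.SelfCentralPrime

open scoped ComplexConjugate commutatorElement
open Cfsg.Agent Cfsg.Agent.Blocks
open Cfsg.Agent.BlockThms.OrderP

universe u

variable {G : Type u} [Group G] [Fintype G] {p : ℕ} [Fact p.Prime] {x : G}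

omit [Fact p.Prime] in
/-- The subgroup is a Sylow subgroup. -/
theorem exists_sylow (hp : p.Prime) (hx : orderOf x = p)
    (hC : Subgroup.centralizer ({x} : Set G) = Subgroup.zpowers x) :
    ∃ P : Sylow p G, (P : Subgroup G) = Subgroup.zpowers x := by
  have := Fact.mk hp
  obtain ⟨S, hS⟩ := (IsPGroup.of_card (p := p) (n := 1)
    (by rw [Nat.card_zpowers, hx, pow_one]) : IsPGroup p (Subgroup.zpowers x)).exists_le_sylow
  refine ⟨S, le_antisymm ?_ hS⟩
  have hxS : x ∈ (S : Subgroup G) := hS (Subgroup.mem_zpowers x)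
  have hx1 : x ≠ 1 := fun h => hp.ne_one (by rw [← hx, h, orderOf_one])
  have : Nontrivial (S : Subgroup G) :=
    ⟨⟨x, hxS⟩, 1, fun h => hx1 (congrArg Subtype.val h)⟩
  have := S.2.center_nontrivial
  obtain ⟨⟨⟨c, hcS⟩, hc⟩, hc1⟩ := exists_ne (1 : Subgroup.center (S : Subgroup G))
  have hcomm : ∀ y ∈ (S : Subgroup G), y * c = c * y := fun y hy =>
    congrArg Subtype.val (Subgroup.mem_center_iff.1 hc ⟨y, hy⟩)
  have hcX : c ∈ Subgroup.zpowers x := by
    rw [← hC]; exact Subgroup.mem_centralizer_singleton_iff.2 (hcomm x hxS).symm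
  have hgen : Subgroup.zpowers c = Subgroup.zpowers x := by
    refine Subgroup.eq_of_le_of_card_ge (Subgroup.zpowers_le.2 hcX) ?_
    rw [Nat.card_zpowers, Nat.card_zpowers, hx]
    have hd : orderOf c ∣ p := by
      have h1 := Subgroup.orderOf_dvd_natCard _ hcX
      rwa [Nat.card_zpowers, hx] at h1
    refine ge_of_eq ((hp.eq_one_or_self_of_dvd _ hd).resolve_left fun h => ?_)
    rw [orderOf_eq_one_iff] at h
    exact hc1 (Subtype.ext (Subtype.ext h))
  intro y hy
  rw [← hC]
  refine Subgroup.mem_centralizer_singleton_iff.2 ?_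
  obtain ⟨i, hi⟩ := (hgen ▸ Subgroup.mem_zpowers x : x ∈ Subgroup.zpowers c)
  rw [← show c ^ i = x from hi]
  exact ((show Commute y c from hcomm y hy).zpow_right i).eq

variable {P : Sylow p G} {e : ℕ} (hS : Setup P e)
  (hC : Subgroup.centralizer (P : Set G) = (P : Subgroup G))
include hS hC

open scoped _root_.Classical in
/-- A member with no invariants on `P` vanishes on the sums over cosets of `P`. -/
theorem sum_coset_eq_zero {χ : G → ℂ} (hχ : Cfsg.IsCharacter G χ)
    (h0 : ∀ u ∈ (P : Subgroup G), u ≠ 1 → χ u = -1) (hdeg : χ 1 + 1 = (p : ℂ)) (g : G) :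
    ∑ u : (P : Subgroup G), χ (g * u) = 0 := by
  classical
  obtain ⟨n, ρ, rfl⟩ := hχ
  let ρP : Representation ℂ (P : Subgroup G) (Fin n → ℂ) := ρ.comp (P : Subgroup G).subtype
  have hne : (Nat.card (P : Subgroup G) : ℂ) ≠ 0 := Nat.cast_ne_zero.2 Nat.card_pos.ne'
  have : Invertible (Nat.card (P : Subgroup G) : ℂ) := invertibleOfNonzero hne
  have h1 := ρP.card_inv_mul_sum_char_eq_finrank
  have h2 : ∑ u : (P : Subgroup G), ρP.character u = 0 := by
    rw [← Finset.add_sum_erase _ _ (Finset.mem_univ 1)]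
    have e1 : ∀ u ∈ (Finset.univ : Finset (P : Subgroup G)).erase 1, ρP.character u = -1 :=
      fun u hu => h0 u u.2 fun h => Finset.ne_of_mem_erase hu (Subtype.ext h)
    rw [Finset.sum_congr rfl e1, Finset.sum_const, Finset.card_erase_of_mem (Finset.mem_univ _),
      Finset.card_univ, ← Nat.card_eq_fintype_card, hS.card, nsmul_eq_mul,
      Nat.cast_sub (Fact.out : p.Prime).one_le, Nat.cast_one,
      show ρP.character 1 = ρ.character 1 by
        show LinearMap.trace ℂ _ (ρ ((1 : (P : Subgroup G)) : G)) = _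
        rfl]
    linear_combination hdeg
  rw [h2, mul_zero] at h1
  have hbot : ρP.invariants = ⊥ := Submodule.finrank_eq_zero.1 (by exact_mod_cast h1.symm)
  have hE : ∑ u : (P : Subgroup G), ρ (u : G) = 0 := by
    refine LinearMap.ext fun v => ?_
    have hv : (∑ u : (P : Subgroup G), ρ (u : G)) v ∈ ρP.invariants := by
      intro a
      simp only [LinearMap.sum_apply, map_sum]
      refine Fintype.sum_equiv (Equiv.mulLeft a) _ _ fun u => ?_
      show ρ (a : G) (ρ (u : G) v) = ρ ((a * u : (P : Subgroup G)) : G) v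
      rw [Subgroup.coe_mul, map_mul, Module.End.mul_apply]
    rw [hbot, Submodule.mem_bot] at hv
    rw [hv, LinearMap.zero_apply]
  show ∑ u : (P : Subgroup G), LinearMap.trace ℂ _ (ρ (g * u)) = 0
  simp only [map_mul]
  rw [← map_sum, ← Finset.mul_sum, hE, mul_zero, map_zero]

/-- Off `P` such a character vanishes on the normalizer. -/
theorem apply_eq_zero {χ : G → ℂ} (hχ : Cfsg.IsCharacter G χ)
    (h0 : ∀ u ∈ (P : Subgroup G), u ≠ 1 → χ u = -1) (hdeg : χ 1 + 1 = (p : ℂ)) {g : G}
    (hg : g ∈ Subgroup.normalizer (P : Set G)) (hgP : g ∉ (P : Subgroup G)) : χ g = 0 := by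
  classical
  let f : ↥(P : Subgroup G) → ↥(P : Subgroup G) := fun v =>
    ⟨g⁻¹ * v * g * (v : G)⁻¹, mul_mem (by
      have h1 := hS.conj_mem v.2 (inv_mem hg)
      rwa [inv_inv] at h1) (inv_mem v.2)⟩
  have hfi : Function.Injective f := by
    intro v w hvw
    have h1 : g⁻¹ * v * g * (v : G)⁻¹ = g⁻¹ * w * g * (w : G)⁻¹ := congrArg Subtype.val hvw
    have hcw := hS.comm v.2 (inv_mem w.2)
    by_contra hne
    have hz : (w : G)⁻¹ * v ≠ 1 := fun h => hne (Subtype.ext (inv_mul_eq_one.1 h).symm)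
    have h2 : g⁻¹ * ((w : G)⁻¹ * v) * g = (w : G)⁻¹ * v := by
      calc g⁻¹ * ((w : G)⁻¹ * v) * g
          = (g⁻¹ * w * g)⁻¹ * (g⁻¹ * v * g * (v : G)⁻¹) * v := by group
        _ = (g⁻¹ * w * g)⁻¹ * (g⁻¹ * w * g * (w : G)⁻¹) * v := by rw [h1]
        _ = (w : G)⁻¹ * v := by group
    have h3 : g ∈ Subgroup.centralizer ({(w : G)⁻¹ * v} : Set G) := by
      refine Subgroup.mem_centralizer_singleton_iff.2 ?_
      calc g * ((w : G)⁻¹ * v) = g * (g⁻¹ * ((w : G)⁻¹ * v) * g) := by rw [h2]
        _ = (w : G)⁻¹ * v * g := by group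
    rw [hS.centralizer_eq (mul_mem (inv_mem w.2) v.2) hz, hC] at h3
    exact hgP h3
  have hfs := Finite.injective_iff_surjective.1 hfi
  have hconst : ∀ u : (P : Subgroup G), χ (g * u) = χ g := by
    intro u
    obtain ⟨v, rfl⟩ := hfs u
    have := Char.isClassFunction_of_isCharacter hχ g (v : G)
    rw [← this]
    show χ (g * (g⁻¹ * v * g * (v : G)⁻¹)) = _
    congr 1
    group
  have h1 := sum_coset_eq_zero hS hC hχ h0 hdeg g
  rw [Finset.sum_congr rfl fun u _ => hconst u, Finset.sum_const, Finset.card_univ,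
    ← Nat.card_eq_fintype_card, hS.card, nsmul_eq_mul] at h1
  exact (mul_eq_zero.1 h1).resolve_left (Nat.cast_ne_zero.2 (Fact.out : p.Prime).ne_zero)

/-- The first `e` powers of a generator of the automizer move a point differently. -/
theorem pow_conj_inj {y z : G} (hz : z ∈ (P : Subgroup G)) (hz1 : z ≠ 1)
    (hpow : ∀ j : ℕ, y ^ j ∈ Subgroup.centralizer (P : Set G) ↔ e ∣ j) {i j : ℕ} (hi : i < e)
    (hj : j < e) (hij : y ^ i * z * (y ^ i)⁻¹ = y ^ j * z * (y ^ j)⁻¹) : i = j := by
  have key : ∀ {a b : ℕ}, a < b → b < e →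
      y ^ a * z * (y ^ a)⁻¹ ≠ y ^ b * z * (y ^ b)⁻¹ := by
    intro a b hab hb h
    have h1 : y ^ (b - a) ∈ Subgroup.centralizer ({z} : Set G) := by
      refine Subgroup.mem_centralizer_singleton_iff.2 ?_
      have h2 : y ^ b = y ^ a * y ^ (b - a) := by rw [← pow_add]; congr 1; omega
      rw [h2] at h
      calc y ^ (b - a) * z = (y ^ a)⁻¹ * (y ^ a * y ^ (b - a) * z * (y ^ a * y ^ (b - a))⁻¹) *
            y ^ a * y ^ (b - a) := by group
        _ = (y ^ a)⁻¹ * (y ^ a * z * (y ^ a)⁻¹) * y ^ a * y ^ (b - a) := by rw [← h]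
        _ = z * y ^ (b - a) := by group
    rw [hS.centralizer_eq hz hz1, hpow] at h1
    have := Nat.le_of_dvd (by omega) h1
    omega
  rcases Nat.lt_trichotomy i j with h | h | h
  exacts [absurd hij (key h hj), h, absurd hij.symm (key h hi)]

/-- The values on `P` of an irreducible character of degree `p - 1`. -/
theorem apply_eq_neg_one (hp2 : p ≠ 2) (he1 : e ≠ 1) {χ : Cfsg.IrrCharacter G}
    (hdeg : Cfsg.charDegree (χ : G → ℂ) + 1 = p) {M : Ideal Cfsg.AlgInt}
    (hM : Cfsg.IsPModular p M) {z : G} (hz : z ∈ (P : Subgroup G)) (hz1 : z ≠ 1) :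
    (χ : G → ℂ) z = -1 := by
  classical
  have hp : p.Prime := Fact.out
  have hp3 : 3 ≤ p := by
    have := hp.two_le
    omega
  have hχc := Char.IsIrr.isCharacter χ.2
  have hd1 : (χ : G → ℂ) 1 = (Cfsg.charDegree (χ : G → ℂ) : ℂ) := (CharArith.irr_degree_spec χ).1
  -- the sum over `P`
  obtain ⟨n, hn⟩ := Char.classInner_isCharacter_eq_natCast
    (Char.isCharacter_res (P : Subgroup G) hχc) (Char.isCharacter_one (G := (P : Subgroup G)))
  rw [Cfsg.classInner, hS.card] at hn
  simp only [map_one, mul_one] at hn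
  rw [inv_mul_eq_iff_eq_mul₀ (Nat.cast_ne_zero.2 hp.ne_zero)] at hn
  rw [← Finset.add_sum_erase _ _ (Finset.mem_univ (1 : (P : Subgroup G)))] at hn
  have hfib : ∀ w ∈ (P : Subgroup G), w ≠ 1 → χ ∉ Cfsg.principalBlock M G → (χ : G → ℂ) w = 0 := by
    intro w hw hw1 hout
    have h1 := hS.avg_eq_zero hM hw hw1 hout
    have hwo : ∃ j, orderOf w = p ^ j := ⟨1, by
      rw [pow_one, ← Nat.card_zpowers, hS.zpowers_eq hw hw1, hS.card]⟩
    have hfw : fiber p w = {w} := by
      ext g
      rw [Finset.mem_singleton, mem_fiber]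
      constructor
      · intro h
        have hgC : g ∈ (P : Subgroup G) := by
          rw [← hC, ← hS.centralizer_eq hw hw1, ← h]
          refine Subgroup.mem_centralizer_singleton_iff.2 ?_
          conv_rhs => rw [pPartOf]
          rw [pPartOf]
          exact (Commute.self_pow g _).eq
        rw [← h]
        have : ∃ j, orderOf g = p ^ j := by
          obtain ⟨j, hj⟩ := IsPGroup.iff_orderOf.1 P.2 ⟨g, hgC⟩
          exact ⟨j, by rw [← hj, Subgroup.orderOf_mk]⟩
        rw [show pPartOf p g = g by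
          have := (parts_mul hp (Commute.one_right g) this (by simp [hp.ne_one])).1
          rwa [mul_one] at this]
      · rintro rfl
        have := (parts_mul hp (Commute.one_right g) hwo (by simp [hp.ne_one])).1
        rwa [mul_one] at this
    rw [avg, hfw, Finset.card_singleton, Finset.sum_singleton, Nat.cast_one, inv_one, one_mul] at h1
    exact h1
  have hmem : χ ∈ Cfsg.principalBlock M G := by
    by_contra hout
    rw [Finset.sum_eq_zero (fun (u : ↥(P : Subgroup G)) hu => hfib u u.2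
      (fun h => Finset.ne_of_mem_erase hu (Subtype.ext h)) hout), add_zero] at hn
    have h1 : ((Cfsg.charDegree (χ : G → ℂ) : ℕ) : ℂ) = ((p * n : ℕ) : ℂ) := by
      push_cast; rw [← hd1]; exact hn
    have h2 : p ∣ Cfsg.charDegree (χ : G → ℂ) := ⟨n, by exact_mod_cast h1⟩
    have h3 := Nat.le_of_dvd (Blocks.charDegree_pos χ.2) h2
    omega
  obtain ⟨X, Y, a, s, -, -, -, hXY, hs, hX, hY, -, -⟩ := hS.principal_structure hM
  rcases (hXY χ).1 hmem with hx' | hy'
  · obtain ⟨ha, hmod, hval⟩ := hX χ hx'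
    have := hval z hz hz1 1 (one_mem _) (by simp [hp.ne_one])
    rw [mul_one] at this
    rw [this]
    have hd : (Cfsg.charDegree (χ : G → ℂ) : ℤ) = (p : ℤ) - 1 := by omega
    rw [hd] at hmod
    rcases ha with h1 | h1
    · rw [h1] at hmod
      have h2 := Int.le_of_dvd (by norm_num)
        (show (p : ℤ) ∣ 2 by
          have h3 : (p : ℤ) ∣ 1 - ((p : ℤ) - 1) := Int.modEq_iff_dvd.1 hmod
          have h4 := dvd_add h3 (dvd_refl (p : ℤ))
          ring_nf at h4
          exact h4)
      omega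
    · rw [h1]; norm_num
  · -- the automizer is the whole automorphism group
    have hmod := hY χ hy'
    have hd : (Cfsg.charDegree (χ : G → ℂ) : ℤ) = (p : ℤ) - 1 := by omega
    rw [hd] at hmod
    obtain ⟨hdvd, y, hyN, hgen, hpow, -⟩ := hS.exists_y
    have hep : e = p - 1 := by
      have hle := Nat.le_of_dvd (by omega) hdvd
      have hpos := hS.e_pos
      have h3 : (p : ℤ) ∣ -((e : ℤ) * s) - ((p : ℤ) - 1) := Int.modEq_iff_dvd.1 hmod
      have h4 := dvd_add h3 (dvd_refl (p : ℤ))
      rcases hs with h1 | h1 <;> rw [h1] at h4 <;> ring_nf at h4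
      · have h5 : (p : ℤ) ∣ (e : ℤ) - 1 := by
          have := dvd_neg.2 h4
          ring_nf at this ⊢
          exact this
        have := Int.eq_zero_of_dvd_of_nonneg_of_lt (by omega) (by omega) h5
        omega
      · have h5 := Int.le_of_dvd (by omega) h4
        omega
    -- all nontrivial elements are conjugate
    have hconst : ∀ u ∈ (P : Subgroup G), u ≠ 1 → (χ : G → ℂ) u = (χ : G → ℂ) z := by
      have hinj : Set.InjOn (fun j : ℕ => y ^ j * z * (y ^ j)⁻¹) (Set.Iio e) := by
        intro i hi j hj hij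
        exact pow_conj_inj hS hC hz hz1 hpow hi hj hij
      intro u hu hu1
      have hcard : ((Finset.range e).image fun j : ℕ => y ^ j * z * (y ^ j)⁻¹).card = e := by
        rw [Finset.card_image_of_injOn (by simpa using hinj), Finset.card_range]
      have hsub : ((Finset.range e).image fun j : ℕ => y ^ j * z * (y ^ j)⁻¹) ⊆
          Finset.univ.filter fun w => w ∈ (P : Subgroup G) ∧ w ≠ 1 := by
        intro w hw
        obtain ⟨j, -, rfl⟩ := Finset.mem_image.1 hw
        exact Finset.mem_filter.2 ⟨Finset.mem_univ _, hS.conj_mem hz (pow_mem hyN j),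
          fun h => hz1 (conj_eq_one_iff.1 h)⟩
      have hle : (Finset.univ.filter fun w => w ∈ (P : Subgroup G) ∧ w ≠ 1).card ≤ e := by
        have : (Finset.univ.filter fun w => w ∈ (P : Subgroup G) ∧ w ≠ 1) =
            (Finset.univ.filter fun w => w ∈ (P : Subgroup G)).erase 1 := by
          ext w; simp [and_comm]
        rw [this, Finset.card_erase_of_mem (by simp), ← Fintype.card_subtype,
          ← Nat.card_eq_fintype_card, hS.card, hep]
      have := Finset.eq_of_subset_of_card_le hsub (by rw [hcard]; exact hle)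
      obtain ⟨j, -, hj⟩ : ∃ j ∈ Finset.range e, y ^ j * z * (y ^ j)⁻¹ = u :=
        Finset.mem_image.1 (this ▸ Finset.mem_filter.2 ⟨Finset.mem_univ _, hu, hu1⟩)
      rw [← hj, Char.isClassFunction_of_isCharacter hχc]
    rw [Finset.sum_congr rfl (fun (u : ↥(P : Subgroup G)) hu => hconst u u.2
      (fun h => Finset.ne_of_mem_erase hu (Subtype.ext h))), Finset.sum_const,
      Finset.card_erase_of_mem (Finset.mem_univ _), Finset.card_univ, ← Nat.card_eq_fintype_card,
      hS.card, nsmul_eq_mul] at hn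
    set v := (χ : G → ℂ) z with hv
    have hp1 : ((p - 1 : ℕ) : ℂ) ≠ 0 := Nat.cast_ne_zero.2 (by omega)
    have hd' : (Cfsg.charDegree (χ : G → ℂ) : ℂ) = ((p - 1 : ℕ) : ℂ) := by
      congr 1; omega
    have hone : ((1 : (P : Subgroup G)) : G) = 1 := rfl
    rw [hone, hd1, hd'] at hn
    have hveq : v = (((p : ℚ) * n / (p - 1 : ℕ) - 1 : ℚ) : ℂ) := by
      push_cast [Nat.cast_sub hp.one_le] at hn hp1 ⊢
      field_simp
      linear_combination hn
    obtain ⟨w, hw⟩ := Char.exists_int_of_isIntegral_rat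
      (hveq ▸ Char.IsChar.isIntegral hχc z : IsIntegral ℤ ((((p : ℚ) * n / (p - 1 : ℕ) - 1 : ℚ)) : ℂ))
    have hnorm := Char.IsChar.norm_le hχc z
    rw [hd1, hd', Complex.natCast_re, ← hv, hveq, ← hw] at hnorm
    push_cast at hnorm
    rw [Complex.norm_intCast, Nat.cast_sub hp.one_le, Nat.cast_one] at hnorm
    have hw' : ((w : ℤ) + 1) * ((p : ℤ) - 1) = (p : ℤ) * n := by
      have hq1 : ((p - 1 : ℕ) : ℚ) ≠ 0 := Nat.cast_ne_zero.2 (by omega)
      have h1 : ((w : ℚ) + 1) * ((p - 1 : ℕ) : ℚ) = (p : ℚ) * n := by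
        rw [hw]; field_simp; ring
      rw [Nat.cast_sub hp.one_le, Nat.cast_one] at h1
      exact_mod_cast h1
    have hwb : -((p : ℤ) - 1) ≤ w ∧ w ≤ (p : ℤ) - 1 := by
      have h1 : |w| ≤ (p : ℤ) - 1 := by exact_mod_cast hnorm
      exact abs_le.1 h1
    obtain ⟨q, hq⟩ : (p : ℤ) ∣ w + 1 := by
      have hco : IsCoprime (p : ℤ) ((p : ℤ) - 1) := ⟨1, -1, by ring⟩
      exact hco.dvd_of_dvd_mul_right ⟨n, hw'⟩
    have hq01 : q = 0 ∨ q = 1 := by
      have h1 : q ≤ 1 := by nlinarith
      have h2 : 0 ≤ q := by nlinarith [Int.natCast_nonneg n]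
      omega
    rcases hq01 with rfl | rfl
    · obtain rfl : w = -1 := by omega
      rw [hveq, ← hw]; norm_num
    · -- `P` would be in the kernel
      exfalso
      have hvd : v = (χ : G → ℂ) 1 := by
        rw [hd1, hd', hveq, ← hw, show w = (p : ℤ) - 1 by omega, Nat.cast_sub hp.one_le]
        push_cast; rfl
      set K := Char.kerSubgroup hχc
      have hPK : (P : Subgroup G) ≤ K := fun u hu => by
        show (χ : G → ℂ) u = (χ : G → ℂ) 1
        by_cases h : u = 1
        · rw [h]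
        · rw [hconst u hu h, hvd]
      have htop : Subgroup.normalizer (P : Set G) ⊔ K = ⊤ := by
        have h1 := Sylow.normalizer_sup_eq_top (P.subtype hPK)
        rw [Sylow.coe_subtype, Subgroup.map_subgroupOf_eq_of_le hPK] at h1
        exact h1
      have hq' : ∀ g : G, ∃ j : ℕ, (QuotientGroup.mk' K) g = (QuotientGroup.mk' K) y ^ j := by
        intro g
        have hg : g ∈ Subgroup.normalizer (P : Set G) ⊔ K := htop ▸ Subgroup.mem_top g
        obtain ⟨n', hn', k', hk', rfl⟩ := Subgroup.mem_sup_of_normal_right.1 hg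
        obtain ⟨j, hj⟩ := hgen n' hn'
        rw [hC] at hj
        refine ⟨j, ?_⟩
        have e1 : (QuotientGroup.mk' K) k' = 1 := (QuotientGroup.eq_one_iff k').2 hk'
        have e2 : (QuotientGroup.mk' K) (n' * (y ^ j)⁻¹) = 1 :=
          (QuotientGroup.eq_one_iff _).2 (hPK hj)
        rw [map_mul, map_inv, map_pow, mul_inv_eq_one] at e2
        rw [map_mul, e1, mul_one, e2]
      have hlin : (χ : G → ℂ) 1 = 1 := by
        refine Char.degree_one_of_commutator_le_ker χ.2 fun g hg => ?_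
        have hle : commutator G ≤ K := by
          rw [commutator_def, Subgroup.commutator_le]
          intro a _ b _
          refine (QuotientGroup.eq_one_iff _).1 ?_
          obtain ⟨i, hi⟩ := hq' a
          obtain ⟨j, hj⟩ := hq' b
          show (QuotientGroup.mk' K) ⁅a, b⁆ = 1
          rw [map_commutatorElement, hi, hj, commutatorElement_eq_one_iff_commute]
          exact (Commute.refl _).pow_pow i j
        exact hle hg
      rw [hd1, hd'] at hlin
      have : p - 1 = 1 := by exact_mod_cast hlin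
      omega

omit hC in
/-- The classes of elements of order `p`. -/
theorem card_classes (hC : Subgroup.centralizer (P : Set G) = (P : Subgroup G)) :
    e * Nat.card {C : ConjClasses G // ∃ g ∈ C.carrier, orderOf g = p} = p - 1 := by
  classical
  have hp : p.Prime := Fact.out
  obtain ⟨-, y, hyN, hgen, hpow, -⟩ := hS.exists_y
  set S := Finset.univ.filter fun w : G => w ∈ (P : Subgroup G) ∧ w ≠ 1 with hSdef
  have hScard : S.card = p - 1 := by
    have : S = (Finset.univ.filter fun w => w ∈ (P : Subgroup G)).erase 1 := by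
      ext w; simp [hSdef, and_comm]
    rw [this, Finset.card_erase_of_mem (by simp), ← Fintype.card_subtype,
      ← Nat.card_eq_fintype_card, hS.card]
  have hord : ∀ w ∈ S, orderOf w = p := fun w hw => by
    obtain ⟨-, hw, hw1⟩ := Finset.mem_filter.1 hw
    rw [← Nat.card_zpowers, hS.zpowers_eq hw hw1, hS.card]
  have hfib : ∀ c ∈ S.image ConjClasses.mk, (S.filter fun w => ConjClasses.mk w = c).card = e := by
    intro c hc
    obtain ⟨z, hzS, rfl⟩ := Finset.mem_image.1 hc
    obtain ⟨-, hz, hz1⟩ := Finset.mem_filter.1 hzS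
    rw [show e = (Finset.range e).card from (Finset.card_range e).symm]
    symm
    refine Finset.card_bij (fun j _ => y ^ j * z * (y ^ j)⁻¹) (fun j _ => ?_)
      (fun i hi j hj hij => ?_) fun w hw => ?_
    · refine Finset.mem_filter.2 ⟨Finset.mem_filter.2 ⟨Finset.mem_univ _,
        hS.conj_mem hz (pow_mem hyN j), fun h => hz1 (conj_eq_one_iff.1 h)⟩,
        ConjClasses.mk_eq_mk_iff_isConj.2 (isConj_iff.2 ⟨y ^ j, rfl⟩).symm⟩
    · rw [Finset.mem_range] at hi hj
      exact pow_conj_inj hS hC hz hz1 hpow hi hj hij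
    · obtain ⟨hwS, hwc⟩ := Finset.mem_filter.1 hw
      obtain ⟨-, hw', -⟩ := Finset.mem_filter.1 hwS
      obtain ⟨g, hg⟩ := isConj_iff.1 (ConjClasses.mk_eq_mk_iff_isConj.1 hwc).symm
      have hgN : g⁻¹ ∈ Subgroup.normalizer (P : Set G) :=
        hS.mem_normalizer hz hz1 (by rw [inv_inv, hg]; exact hw')
      obtain ⟨j, hj⟩ := hgen g (inv_mem_iff.1 hgN)
      refine ⟨j % e, Finset.mem_range.2 (Nat.mod_lt _ hS.e_pos), ?_⟩
      rw [← hS.centralizer_eq hz hz1] at hj
      have hej : (y ^ e) ^ (j / e) ∈ Subgroup.centralizer ({z} : Set G) := by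
        rw [hS.centralizer_eq hz hz1]
        exact pow_mem ((hpow e).2 dvd_rfl) _
      have hsplit : y ^ j = y ^ (j % e) * (y ^ e) ^ (j / e) := by
        rw [← pow_mul, ← pow_add, Nat.mod_add_div]
      have h1 := Subgroup.mem_centralizer_singleton_iff.1 hej
      have h2 : (y ^ j)⁻¹ * g ∈ Subgroup.centralizer ({z} : Set G) := by
        have hconj : (y ^ j)⁻¹ * (g * (y ^ j)⁻¹) * y ^ j ∈ Subgroup.centralizer ({z} : Set G) := by
          rw [hS.centralizer_eq hz hz1, hC] at hj ⊢
          have := hS.conj_mem hj (inv_mem (pow_mem hyN j))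
          rwa [inv_inv] at this
        rwa [show (y ^ j)⁻¹ * (g * (y ^ j)⁻¹) * y ^ j = (y ^ j)⁻¹ * g by group] at hconj
      have h3 := Subgroup.mem_centralizer_singleton_iff.1 h2
      rw [← hg]
      symm
      calc g * z * g⁻¹ = y ^ j * (((y ^ j)⁻¹ * g) * z) * g⁻¹ := by group
        _ = y ^ j * z * (y ^ j)⁻¹ := by rw [h3]; group
        _ = y ^ (j % e) * ((y ^ e) ^ (j / e) * z) * (y ^ j)⁻¹ := by rw [hsplit]; group
        _ = y ^ (j % e) * z * (y ^ (j % e))⁻¹ := by rw [h1, hsplit]; group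
  have h1 := Finset.card_eq_sum_card_image ConjClasses.mk S
  rw [Finset.sum_congr rfl hfib, Finset.sum_const, smul_eq_mul, hScard] at h1
  rw [h1, mul_comm, ← Nat.card_eq_finsetCard (S.image ConjClasses.mk)]
  congr 1
  refine Nat.card_congr (Equiv.subtypeEquivRight fun c => ⟨?_, ?_⟩)
  · rintro ⟨g, hgc, hgo⟩
    obtain ⟨W, hW⟩ := (IsPGroup.of_card (p := p) (n := 1)
      (by rw [Nat.card_zpowers, hgo, pow_one]) : IsPGroup p (Subgroup.zpowers g)).exists_le_sylow
    obtain ⟨d, hd⟩ := MulAction.exists_smul_eq G W P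
    have hmemP : d * g * d⁻¹ ∈ (P : Subgroup G) := hd ▸ ⟨g, hW (Subgroup.mem_zpowers g), rfl⟩
    have hne : d * g * d⁻¹ ≠ 1 := fun h => hp.ne_one (by
      rw [← hgo, conj_eq_one_iff.1 h, orderOf_one])
    refine Finset.mem_image.2 ⟨d * g * d⁻¹, Finset.mem_filter.2 ⟨Finset.mem_univ _, hmemP, hne⟩, ?_⟩
    rw [← ConjClasses.mem_carrier_iff_mk_eq.1 hgc]
    exact ConjClasses.mk_eq_mk_iff_isConj.2 (isConj_iff.2 ⟨d, rfl⟩).symm
  · intro hc
    obtain ⟨w, hw, rfl⟩ := Finset.mem_image.1 hc
    exact ⟨w, ConjClasses.mem_carrier_mk, hord w hw⟩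

/-- The parity statement for odd primes. -/
theorem even_or_even (hp2 : p ≠ 2) {χ : Cfsg.IrrCharacter G}
    (hdeg : Cfsg.charDegree (χ : G → ℂ) + 1 = p) {M : Ideal Cfsg.AlgInt}
    (hM : Cfsg.IsPModular p M) {t : ℕ} (ht : e * t = p - 1) :
    Even t ∨ Even (commutator G).index := by
  classical
  have hp : p.Prime := Fact.out
  have hodd : Odd p := hp.odd_of_ne_two hp2
  have heven : Even (e * t) := by
    rw [ht]; exact Nat.Odd.sub_odd hodd odd_one
  rcases Nat.even_or_odd t with htev | htodd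
  · exact Or.inl htev
  right
  have heE : Even e := (Nat.even_mul.1 heven).resolve_right (Nat.not_even_iff_odd.2 htodd)
  have he1 : e ≠ 1 := fun h => by rw [h] at heE; exact absurd heE (by norm_num)
  have hχc := Char.IsIrr.isCharacter χ.2
  have hd1 : (χ : G → ℂ) 1 = (Cfsg.charDegree (χ : G → ℂ) : ℂ) := (CharArith.irr_degree_spec χ).1
  have hval := fun u (hu : u ∈ (P : Subgroup G)) h1 => apply_eq_neg_one hS hC hp2 he1 hdeg hM hu h1
  have hdeg' : (χ : G → ℂ) 1 + 1 = (p : ℂ) := by rw [hd1]; exact_mod_cast hdeg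
  obtain ⟨-, y, hyN, -, hpow, hyreg⟩ := hS.exists_y
  have hye : y ^ e = 1 := by
    have h1 : y ^ e ∈ (P : Subgroup G) := hC ▸ (hpow e).2 dvd_rfl
    by_contra hne
    refine hyreg ?_
    rw [← Nat.card_zpowers, hS.zpowers_eq h1 hne, hS.card]
  have hvk : ∀ k : ℕ, (χ : G → ℂ) (y ^ k) = if e ∣ k then ((p - 1 : ℕ) : ℂ) else 0 := by
    intro k
    split_ifs with hk
    · obtain ⟨q, rfl⟩ := hk
      rw [pow_mul, hye, one_pow, hd1]
      congr 1
      omega
    · refine apply_eq_zero hS hC hχc hval hdeg' (pow_mem hyN k) fun hmem => hk ((hpow k).1 ?_)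
      rw [hC]; exact hmem
  -- the determinant
  obtain ⟨n, ρ, hρ⟩ := id hχc
  obtain ⟨ν, hν⟩ := ProjExt.exists_detChar_hom hχc
  have hepos := hS.e_pos
  set ω : ℂ := Complex.exp (2 * Real.pi * Complex.I / e) with hω
  have hωp : IsPrimitiveRoot ω e := Complex.isPrimitiveRoot_exp e hepos.ne'
  obtain ⟨μ, b, hb, -, -⟩ := Char.exists_eigenbasis ρ y
  have hdet : (ν y : ℂ) = -1 := by
    have h0 := congrFun hν y
    rw [ProjExt.detChar_eq_det ρ hρ] at h0
    rw [← h0]
    show LinearMap.det (ρ y) = -1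
    rw [ProjExt.det_eq_prod_of_eigenbasis _ b μ hb,
      ProjExt.prod_eq_of_sum_pow_eq μ (fun q : Fin t × Fin e => ω ^ (q.2 : ℕ)) fun k => ?_]
    · rw [Fintype.prod_prod_type]
      simp only [Finset.prod_const, Finset.card_univ, Fintype.card_fin]
      obtain ⟨e', he'⟩ := heE
      have h1 : ∏ x : Fin e, ω ^ (x : ℕ) = -1 := by
        rw [Fin.prod_univ_eq_prod_range (fun i => ω ^ i) e, Finset.prod_pow_eq_pow_sum,
          Finset.sum_range_id]
        have h2 : e * (e - 1) / 2 = e' * (e - 1) := by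
          rw [show e * (e - 1) = 2 * (e' * (e - 1)) by rw [he']; ring, Nat.mul_div_cancel_left _ two_pos]
        rw [h2, pow_mul, show ω ^ e' = -1 from IsPrimitiveRoot.eq_neg_one_of_two_right
          (hωp.pow hepos (by omega)), Odd.neg_one_pow ⟨e' - 1, by omega⟩]
      rw [h1, Odd.neg_one_pow htodd]
    · have hbk : ∀ i, ρ (y ^ k) (b i) = μ i ^ k • b i := fun i => by
        induction k with
        | zero => simp
        | succ k ih => rw [pow_succ', map_mul, Module.End.mul_apply, ih, map_smul, hb, smul_smul,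
            pow_succ]
      rw [← Char.trace_eq_sum_of_eigenbasis _ b _ hbk]
      show ρ.character (y ^ k) = _
      rw [hρ, hvk, Fintype.sum_prod_type]
      simp only [Finset.sum_const, Finset.card_univ, Fintype.card_fin, nsmul_eq_mul]
      rw [Finset.sum_congr rfl fun (q : Fin e) _ => pow_right_comm ω (q : ℕ) k]
      rw [Fin.sum_univ_eq_sum_range (fun i => (ω ^ k) ^ i) e]
      split_ifs with hk
      · rw [(hωp.pow_eq_one_iff_dvd k).2 hk]
        simp only [one_pow, Finset.sum_const, Finset.card_range, nsmul_eq_mul, mul_one]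
        rw [← ht]; push_cast; ring
      · rw [geom_sum_eq (fun h => hk ((hωp.pow_eq_one_iff_dvd k).1 h)), ← pow_mul, mul_comm k e,
          pow_mul, hωp.pow_eq_one, one_pow, sub_self, zero_div, mul_zero]
  have hdvd : ν.ker.index ∣ (commutator G).index :=
    Subgroup.index_dvd_of_le (Abelianization.commutator_subset_ker ν)
  refine even_iff_two_dvd.2 (dvd_trans ?_ hdvd)
  rw [Subgroup.index_ker]
  have h2 : orderOf (⟨ν y, y, rfl⟩ : ν.range) = 2 := by
    rw [← Subgroup.orderOf_coe]
    show orderOf (ν y) = 2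
    refine orderOf_eq_prime (Units.ext (by simp [hdet])) fun h => ?_
    rw [h, Units.val_one] at hdet
    norm_num at hdet
  exact h2 ▸ orderOf_dvd_natCard _

end Cfsg.Agent.BlockThms.SelfCentralPrime
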